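import Groth.Agent.DiffOp.Alt
import Groth.Agent.DiffOps.Basic
import Mathlib.Algebra.Module.LocalizedModule.Basic
import Mathlib.RingTheory.Localization.Basic
import Mathlib.RingTheory.Nilpotent.Basic

/-!
# Extension of differential operators to localisations
-/

set_option autoImplicit false
set_option linter.style.haveILetI false
set_option maxHeartbeats 800000
set_option linter.unusedSectionVars false

universe u

noncomputable section

namespace Groth.Agent.DiffExt

open Groth.Agent.DiffOp

section

variable {B M N : Type u} [CommRing B] [AddCommGroup M] [Module B M] [AddCommGroup N] [Module B N]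

/-- Order, recursively. -/
def BOrd : ℕ → (M →+ N) → Prop
  | 0, D => D = 0
  | k + 1, D => ∀ c : B, BOrd k (ad c D)

theorem ord_succ_iff {k : ℕ} {D : M →+ N} :
    BOrd (B := B) (k + 1) D ↔ ∀ c : B, BOrd (B := B) k (ad c D) := Iff.rfl

theorem ord_zero_iff (D : M →+ N) : BOrd (B := B) 0 D ↔ D = 0 := Iff.rfl

theorem BOrd.ad {k : ℕ} {D : M →+ N} (h : BOrd (B := B) (k + 1) D) (c : B) :
    BOrd (B := B) k (DiffOp.ad c D) := h c

theorem BOrd.toOrd : ∀ {k : ℕ} {D : M →+ N}, BOrd (B := B) k D → Ord (B := B) k D
  | 0, D, h => (DiffOp.ord_zero_iff D).2 h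
  | k + 1, D, h => by
      intro a s hs t
      obtain ⟨i, s', hi, rfl, hs'⟩ := Finset.card_eq_succ.1 hs
      rw [alt_insert a hi]
      exact BOrd.toOrd (h (a i)) a s' hs' t

theorem ad_add (c : B) (D E : M →+ N) : ad c (D + E) = ad c D + ad c E := by
  ext t; simp [ad_apply]; abel

theorem ad_zero (c : B) : ad c (0 : M →+ N) = 0 := by
  ext t; simp [ad_apply]

theorem ord_add : ∀ {k : ℕ} {D E : M →+ N}, BOrd (B := B) k D → BOrd (B := B) k E → BOrd (B := B) k (D + E)
  | 0, D, E, hD, hE => by rw [ord_zero_iff] at *; rw [hD, hE, add_zero]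
  | k + 1, D, E, hD, hE => ord_succ_iff.2 fun c => by rw [ad_add]; exact ord_add (hD.ad c) (hE.ad c)

theorem ord_zero_map : ∀ k : ℕ, BOrd (B := B) k (0 : M →+ N)
  | 0 => (ord_zero_iff _).2 rfl
  | k + 1 => ord_succ_iff.2 fun c => by rw [ad_zero]; exact ord_zero_map k

/-- Post-composition with a scalar. -/
def pst (c : B) (D : M →+ N) : M →+ N := (DistribSMul.toAddMonoidHom N c).comp D

/-- Pre-composition with a scalar. -/
def pre (c : B) (D : M →+ N) : M →+ N := D.comp (DistribSMul.toAddMonoidHom M c)

theorem pst_apply (c : B) (D : M →+ N) (t : M) : pst c D t = c • D t := rfl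

theorem pre_apply (c : B) (D : M →+ N) (t : M) : pre c D t = D (c • t) := rfl

theorem ord_pst : ∀ {k : ℕ} {D : M →+ N} (b : B), BOrd (B := B) k D → BOrd (B := B) k (pst b D)
  | 0, D, b, hD => by rw [ord_zero_iff] at *; subst hD; ext t; simp [pst_apply]
  | k + 1, D, b, hD => ord_succ_iff.2 fun c => by
      rw [show ad c (pst b D) = pst b (ad c D) by
        ext t; simp [ad_apply, pst_apply, smul_sub, smul_comm c b]]
      exact ord_pst b (hD.ad c)

theorem ord_pre : ∀ {k : ℕ} {D : M →+ N} (b : B), BOrd (B := B) k D → BOrd (B := B) k (pre b D)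
  | 0, D, b, hD => by rw [ord_zero_iff] at *; subst hD; ext t; simp [pre_apply]
  | k + 1, D, b, hD => ord_succ_iff.2 fun c => by
      rw [show ad c (pre b D) = pre b (ad c D) by
        ext t; simp [ad_apply, pre_apply, smul_comm c b]]
      exact ord_pre b (hD.ad c)

theorem ad_eq (c : B) (D : M →+ N) : ad c D = pre c D - pst c D := rfl

variable {A : Type u} [CommRing A] [Algebra A B] [Module A M] [IsScalarTower A B M] [Module A N]
  [IsScalarTower A B N]

theorem ord_of_diff : ∀ {n : ℕ} {D : M →ₗ[A] N}, Diff16.IsDiffOpLE A B M N n D →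
    BOrd (B := B) (n + 1) D.toAddMonoidHom
  | 0, D, h => ord_succ_iff.2 fun c => (ord_zero_iff _).2 (AddMonoidHom.ext fun t => by
      rw [ad_apply, AddMonoidHom.zero_apply]
      exact sub_eq_zero.2 (h c t))
  | n + 1, D, h => ord_succ_iff.2 fun c => ord_of_diff (h c)

end

/-! ### Uniqueness and existence -/

section Ext

variable {B B' : Type u} [CommRing B] [CommRing B'] [Algebra B B'] {M M' N : Type u}
  [AddCommGroup M] [Module B M] [AddCommGroup M'] [Module B M'] [AddCommGroup N] [Module B N]
  (a : B) (ρ : M →ₗ[B] M') [IsLocalizedModule (Submonoid.powers a) ρ]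

theorem eq_zero_of_comp (ha : ∀ x : N, a • x = 0 → x = 0) :
    ∀ {k : ℕ} {D : M' →+ N}, BOrd (B := B) k D → (∀ m, D (ρ m) = 0) → D = 0
  | 0, _, hD, _ => (ord_zero_iff _).1 hD
  | k + 1, D, hD, h => AddMonoidHom.ext fun t => by
      obtain ⟨⟨m, ⟨_, j, rfl⟩⟩, hm⟩ := IsLocalizedModule.surj (Submonoid.powers a) ρ t
      change a ^ j • t = ρ m at hm
      have h0 : ad (a ^ j) D = 0 := eq_zero_of_comp ha (hD.ad _) fun m' => by
        rw [ad_apply, h m', ← map_smul, h, smul_zero, sub_zero]
      have h1 := congrArg (fun E : M' →+ N => E t) h0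
      simp only [ad_apply, AddMonoidHom.zero_apply, hm, h m, zero_sub, neg_eq_zero] at h1
      have : ∀ (i : ℕ) (x : N), a ^ i • x = 0 → x = 0 := fun i => by
        induction i with
        | zero => intro x hx; rwa [pow_zero, one_smul] at hx
        | succ i ih => intro x hx; rw [pow_succ, mul_smul] at hx; exact ha x (ih _ hx)
      exact this j _ h1

theorem eq_of_comp (ha : ∀ x : N, a • x = 0 → x = 0) {k : ℕ} {D E : M' →+ N} (hD : BOrd (B := B) k D)
    (hE : BOrd (B := B) k E) (h : ∀ m, D (ρ m) = E (ρ m)) : D = E := by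
  rw [← sub_eq_zero]
  refine eq_zero_of_comp a ρ ha (k := k) ?_ fun m => by rw [AddMonoidHom.sub_apply, h, sub_self]
  have : -E = pst (-1 : B) E := by ext t; simp [pst_apply]
  rw [sub_eq_add_neg, this]
  exact ord_add hD (ord_pst _ hE)

variable (T : Set B)

/-- The coinduced module. -/
def W (k : ℕ) : AddSubgroup (B →+ N) where
  carrier := {h | BOrd (B := B) k h ∧ ∀ r ∈ T, ∀ b, h (r * b) = r • h b}
  add_mem' {h h'} H H' := ⟨ord_add H.1 H'.1, fun r hr b => by
    rw [AddMonoidHom.add_apply, AddMonoidHom.add_apply, H.2 r hr b, H'.2 r hr b, smul_add]⟩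
  zero_mem' := ⟨ord_zero_map k, fun r _ b => by simp⟩
  neg_mem' {h} H := ⟨by
      have : -h = pst (-1 : B) h := by ext t; simp [pst_apply]
      rw [this]; exact ord_pst _ H.1,
    fun r hr b => by rw [AddMonoidHom.neg_apply, AddMonoidHom.neg_apply, H.2 r hr b, smul_neg]⟩

variable {T} {k : ℕ}

theorem mem_pre {h : B →+ N} (H : h ∈ W T k) (c : B) : pre c h ∈ W T k :=
  ⟨ord_pre c H.1, fun r hr b => by
    rw [pre_apply, pre_apply, smul_eq_mul, smul_eq_mul, mul_left_comm, H.2 r hr]⟩

theorem mem_pst {h : B →+ N} (H : h ∈ W T k) (c : B) : pst c h ∈ W T k :=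
  ⟨ord_pst c H.1, fun r hr b => by rw [pst_apply, pst_apply, H.2 r hr, smul_comm]⟩

instance : Module B (W (B := B) (N := N) T k) where
  smul c h := ⟨pre c h.1, mem_pre h.2 c⟩
  one_smul h := Subtype.ext (AddMonoidHom.ext fun b => show h.1 ((1 : B) • b) = h.1 b by rw [one_smul])
  mul_smul c d h := Subtype.ext (AddMonoidHom.ext fun b => show h.1 ((c * d) • b) = h.1 (d • c • b) by
    rw [smul_smul, mul_comm])
  smul_zero c := Subtype.ext (AddMonoidHom.ext fun b => rfl)
  smul_add c h h' := Subtype.ext (AddMonoidHom.ext fun b => rfl)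
  add_smul c d h := Subtype.ext (AddMonoidHom.ext fun b =>
    show h.1 ((c + d) • b) = h.1 (c • b) + h.1 (d • b) by rw [add_smul, map_add])
  zero_smul h := Subtype.ext (AddMonoidHom.ext fun b => show h.1 ((0 : B) • b) = 0 by rw [zero_smul, map_zero])

theorem smul_val (c : B) (h : W (B := B) (N := N) T k) (b : B) : (c • h).1 b = h.1 (c * b) := rfl

/-- Post-composition, on the coinduced module. -/
def pstW (c : B) : Module.End B (W (B := B) (N := N) T k) where
  toFun h := ⟨pst c h.1, mem_pst h.2 c⟩
  map_add' h h' := Subtype.ext (AddMonoidHom.ext fun b => smul_add c _ _)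
  map_smul' d h := Subtype.ext (AddMonoidHom.ext fun b => rfl)

theorem isUnit_smul (hu : Function.Bijective fun x : N => a • x) :
    IsUnit (algebraMap B (Module.End B (W (B := B) (N := N) T k)) a) := by
  let ρa := algebraMap B (Module.End B (W (B := B) (N := N) T k)) a
  let la := pstW (T := T) (k := k) (N := N) a
  let e := Equiv.ofBijective _ hu
  have hl : IsUnit la := by
    rw [Module.End.isUnit_iff]
    refine ⟨fun h h' hh => Subtype.ext (AddMonoidHom.ext fun b => hu.1 ?_), fun h => ?_⟩
    · exact congrArg (fun g : W (B := B) (N := N) T k => g.1 b) hh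
    · have hinv : ∀ (c : B) (x : N), e.symm (c • x) = c • e.symm x := fun c x => hu.1 (by
        change a • e.symm (c • x) = a • c • e.symm x
        rw [show a • e.symm (c • x) = c • x from e.apply_symm_apply _, smul_comm,
          show a • e.symm x = x from e.apply_symm_apply _])
      let g : B →+ N := AddMonoidHom.mk' (fun b => e.symm (h.1 b)) fun b b' => hu.1 (by
        change a • e.symm (h.1 (b + b')) = a • (e.symm (h.1 b) + e.symm (h.1 b'))
        rw [smul_add, show a • e.symm (h.1 (b + b')) = _ from e.apply_symm_apply _,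
          show a • e.symm (h.1 b) = _ from e.apply_symm_apply _,
          show a • e.symm (h.1 b') = _ from e.apply_symm_apply _, map_add])
      have hg : pst a g = h.1 := AddMonoidHom.ext fun b => e.apply_symm_apply _
      have aux : ∀ (j : ℕ) (g : B →+ N), BOrd (B := B) j (pst a g) → BOrd (B := B) j g := by
        intro j
        induction j with
        | zero =>
          intro g hg
          rw [ord_zero_iff] at hg ⊢
          exact AddMonoidHom.ext fun b => hu.1 (by
            change a • g b = a • (0 : N)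
            rw [smul_zero]
            exact congrArg (fun φ : B →+ N => φ b) hg)
        | succ j ih =>
          intro g hg
          refine ord_succ_iff.2 fun c => ih _ ?_
          have := hg.ad c
          rwa [show ad c (pst a g) = pst a (ad c g) by
            ext t; simp [ad_apply, pst_apply, smul_sub, smul_comm c a]] at this
      refine ⟨⟨g, aux k g (hg.symm ▸ h.2.1), fun r hr b => ?_⟩, Subtype.ext hg⟩
      change e.symm (h.1 (r * b)) = r • e.symm (h.1 b)
      rw [h.2.2 r hr, hinv]
  have hnil : IsNilpotent (ρa - la) := by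
    refine ⟨k, LinearMap.ext fun h => Subtype.ext ?_⟩
    have : ∀ (j i : ℕ) (h : W (B := B) (N := N) T k), BOrd (B := B) (j + i) h.1 →
        BOrd (B := B) j (((ρa - la) ^ i) h).1 := by
      intro j i
      induction i generalizing j with
      | zero => intro h hh; exact hh
      | succ i ih =>
        intro h hh
        rw [pow_succ']
        exact (ih (j + 1) h (by rwa [show j + 1 + i = j + (i + 1) by omega])).ad a
    exact (ord_zero_iff _).1 (this 0 k h (by rw [zero_add]; exact h.2.1))
  have hc : Commute la (ρa - la) := (show Commute la ρa from (Algebra.commutes a la).symm).sub_right (Commute.refl la)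
  have := hnil.isUnit_add_left_of_commute hl hc.symm
  rwa [add_sub_cancel] at this

theorem exists_ext (hu : Function.Bijective fun x : N => a • x) {D : M →+ N} (hD : BOrd (B := B) k D)
    (hT : ∀ r ∈ T, ∀ m, D (r • m) = r • D m) :
    ∃ E : M' →+ N, (∀ m, E (ρ m) = D m) ∧ BOrd (B := B) k E ∧ ∀ r ∈ T, ∀ x, E (r • x) = r • E x := by
  have hmem : ∀ m : M, (D.comp (AddMonoidHom.mk' (fun b : B => b • m) fun b b' => add_smul b b' m)) ∈ W T k :=
    fun m => by
      refine ⟨?_, fun r hr b => ?_⟩
      · have aux : ∀ (j : ℕ) (D : M →+ N), BOrd (B := B) j D →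
            BOrd (B := B) j (D.comp (AddMonoidHom.mk' (fun b : B => b • m) fun b b' => add_smul b b' m)) := by
          intro j
          induction j with
          | zero => intro D hD; rw [ord_zero_iff] at *; subst hD; rfl
          | succ j ih =>
            intro D hD
            refine ord_succ_iff.2 fun c => ?_
            convert ih (ad c D) (hD.ad c) using 1
            ext b
            simp [ad_apply, smul_smul]
        exact aux k D hD
      · change D ((r * b) • m) = r • D (b • m)
        rw [mul_smul, hT r hr]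
  let ψ : M →ₗ[B] W (B := B) (N := N) T k :=
    { toFun := fun m => ⟨_, hmem m⟩
      map_add' := fun m m' => Subtype.ext (AddMonoidHom.ext fun b => show D (b • (m + m')) = D (b • m) + D (b • m') by
        rw [smul_add, map_add])
      map_smul' := fun c m => Subtype.ext (AddMonoidHom.ext fun b => show D (b • c • m) = D ((c * b) • m) by
        rw [smul_smul, mul_comm]) }
  have hunit : ∀ x : Submonoid.powers a, IsUnit (algebraMap B (Module.End B (W (B := B) (N := N) T k)) x) := by
    rintro ⟨_, j, rfl⟩
    change IsUnit (algebraMap B _ (a ^ j))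
    rw [map_pow]
    exact (isUnit_smul a hu).pow j
  let Ψ := IsLocalizedModule.lift (Submonoid.powers a) ρ ψ hunit
  refine ⟨AddMonoidHom.mk' (fun x => (Ψ x).1 1) fun x y => by rw [map_add]; rfl, fun m => ?_, ?_, fun r hr x => ?_⟩
  · change (Ψ (ρ m)).1 1 = D m
    rw [IsLocalizedModule.lift_apply]
    change D ((1 : B) • m) = D m
    rw [one_smul]
  · have aux : ∀ (j : ℕ) (Φ : M' →+ (B →+ N)), (∀ x, BOrd (B := B) j (Φ x)) →
        (∀ (c : B) x, Φ (c • x) = pre c (Φ x)) →
          BOrd (B := B) j (AddMonoidHom.mk' (fun x => Φ x 1) fun x y => by rw [map_add]; rfl) := by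
      intro j
      induction j with
      | zero =>
        intro Φ hΦ _
        rw [ord_zero_iff]
        ext x
        show Φ x 1 = 0
        rw [(ord_zero_iff _).1 (hΦ x)]
        rfl
      | succ j ih =>
        intro Φ hΦ hlin
        refine ord_succ_iff.2 fun c => ?_
        let Φ' : M' →+ (B →+ N) := AddMonoidHom.mk' (fun x => ad c (Φ x)) fun x y => by rw [map_add, ad_add]
        have e : ad c (AddMonoidHom.mk' (fun x => Φ x 1) fun x y => by rw [map_add]; rfl) =
            AddMonoidHom.mk' (fun x => Φ' x 1) fun x y => by rw [map_add]; rfl := by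
          ext x
          show Φ (c • x) 1 - c • Φ x 1 = ad c (Φ x) 1
          rw [hlin]
          rfl
        rw [e]
        refine ih Φ' (fun x => (hΦ x).ad c) fun d x => ?_
        show ad c (Φ (d • x)) = pre d (ad c (Φ x))
        rw [hlin]
        ext b
        simp [ad_apply, pre_apply, mul_left_comm]
    exact aux k ((W T k).subtype.comp Ψ.toAddMonoidHom) (fun x => (Ψ x).2.1) fun c x => by
      show (Ψ (c • x)).1 = pre c (Ψ x).1
      rw [map_smul]
      rfl
  · change (Ψ (r • x)).1 1 = r • (Ψ x).1 1
    rw [map_smul, smul_val, (Ψ x).2.2 r hr]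

end Ext

end Groth.Agent.DiffExt
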