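import Groth.Agent.DiffExt.Alg
import Groth.Agent.DiffOp.Universal
import Groth.Agent.QC.Localisation

/-!
# Differential operators between global sections extend to sheaves
-/

set_option autoImplicit false
set_option linter.style.haveILetI false
set_option linter.unusedSectionVars false
set_option backward.isDefEq.respectTransparency false
set_option backward.isDefEq.respectTransparency.types false
set_option maxHeartbeats 1000000

universe u

open CategoryTheory CategoryTheory.Limits AlgebraicGeometry TopologicalSpace Opposite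
open Groth.Agent.QC Groth.Agent.DiffOp

noncomputable section

namespace Groth.Agent.DiffExt

/-- Order over a localised ring from order over the ring. -/
theorem bOrd_localise {B B' M N : Type u} [CommRing B] [CommRing B'] (φ : B →+* B') [AddCommGroup M] [Module B M]
    [Module B' M] [AddCommGroup N] [Module B N] [Module B' N] (hM : ∀ (b : B) (m : M), φ b • m = b • m)
    (hN : ∀ (b : B) (m : N), φ b • m = b • m)
    (h : ∀ c : B', ∃ (b s : B), IsUnit (φ s) ∧ φ s * c = φ b) :
    ∀ {k : ℕ} {D : M →+ N}, BOrd (B := B) k D → BOrd (B := B') k D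
  | 0, _, hD => hD
  | k + 1, D, hD => fun c => by
    obtain ⟨b, s, hu, hbs⟩ := h c
    have hb : ∀ b : B, BOrd (B := B') k (ad (φ b) D) := fun b => by
      have e : ad (φ b) D = ad b D := by ext t; simp [ad_apply, hM, hN]
      rw [e]
      exact bOrd_localise φ hM hN h (hD b)
    obtain ⟨v, hv⟩ := hu.exists_left_inv
    have e : ad c D = pst v (ad (φ b) D + pst (-1 : B') (pre c (ad (φ s) D))) := by
      ext t
      simp only [pst_apply, AddMonoidHom.add_apply, pre_apply, ad_apply, ← hbs, neg_smul, one_smul, mul_smul]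
      conv_lhs => rw [← one_smul B' (D (c • t) - c • D t), ← hv, mul_smul]
      congr 1
      rw [smul_sub]
      abel
    rw [e]
    exact ord_pst _ (ord_add (hb b) (ord_pst _ (ord_pre _ (hb s))))

theorem bOrd_comp_left {B M N P : Type u} [CommRing B] [AddCommGroup M] [Module B M] [AddCommGroup N] [Module B N]
    [AddCommGroup P] [Module B P] (L : N →+ P) (hL : ∀ (b : B) n, L (b • n) = b • L n) :
    ∀ {k : ℕ} {D : M →+ N}, BOrd (B := B) k D → BOrd (B := B) k (L.comp D)
  | 0, D, hD => by change L.comp D = 0; rw [show D = 0 from hD]; ext t; simp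
  | k + 1, D, hD => fun c => by
    rw [show ad c (L.comp D) = L.comp (ad c D) by ext t; simp [ad_apply, hL]]
    exact bOrd_comp_left L hL (hD c)

theorem bOrd_comp_right {B M N P : Type u} [CommRing B] [AddCommGroup M] [Module B M] [AddCommGroup N] [Module B N]
    [AddCommGroup P] [Module B P] (L : P →+ M) (hL : ∀ (b : B) n, L (b • n) = b • L n) :
    ∀ {k : ℕ} {D : M →+ N}, BOrd (B := B) k D → BOrd (B := B) k (D.comp L)
  | 0, D, hD => by change D.comp L = 0; rw [show D = 0 from hD]; ext t; simp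
  | k + 1, D, hD => fun c => by
    rw [show ad c (D.comp L) = (ad c D).comp L by ext t; simp [ad_apply, hL]]
    exact bOrd_comp_right L hL (hD c)

theorem bOrd_of_diff {A B M N : Type u} [CommRing A] [CommRing B] [Algebra A B] [AddCommGroup M] [Module A M]
    [Module B M] [IsScalarTower A B M] [AddCommGroup N] [Module A N] [Module B N] [IsScalarTower A B N] :
    ∀ {n : ℕ} {D : M →ₗ[A] N}, Diff16.IsDiffOpLE A B M N n D → BOrd (B := B) (n + 1) D.toAddMonoidHom
  | 0, D, h => fun c => AddMonoidHom.ext fun t => by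
      rw [ad_apply, AddMonoidHom.zero_apply]
      exact sub_eq_zero.2 (h c t)
  | n + 1, D, h => fun c => bOrd_of_diff (h c)

variable {X S : Scheme.{u}} [IsAffine X] (f : X ⟶ S) (F G : X.Modules)

/-- Sections over an open, over the global functions. -/
local instance (priority := 100) modTop (H : X.Modules) (U : X.Opens) : Module Γ(X, ⊤) Γ(H, U) :=
  Module.compHom Γ(H, U) (resO X (le_top : U ≤ ⊤))

omit [IsAffine X] in
theorem res_top_smul (H : X.Modules) {U V : X.Opens} (h : V ≤ U) (b : Γ(X, ⊤)) (t : Γ(H, U)) :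
    res H h (b • t) = b • res H h t := by
  change res H h ((resO X (le_top : U ≤ ⊤) b : Γ(X, U)) • t) = (resO X (le_top : V ≤ ⊤) b : Γ(X, V)) • res H h t
  rw [res_smul, resO_resO]

omit [IsAffine X] in
theorem res_glob_smul (H : X.Modules) {V : X.Opens} (h : V ≤ ⊤) (b : Γ(X, ⊤)) (t : Γ(H, (⊤ : X.Opens))) :
    res H h (b • t) = b • res H h t :=
  res_smul H h b t

omit [IsAffine X] in
theorem bijective_smul_of_le (H : X.Modules) {U : X.Opens} (a : Γ(X, ⊤)) (h : U ≤ X.basicOpen a) :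
    Function.Bijective fun t : Γ(H, U) => a • t := by
  have : IsUnit (resO X (le_top : U ≤ ⊤) a) := by
    rw [← resO_resO h le_top]
    exact (RingedSpace.isUnit_res_basicOpen X.toRingedSpace a).map _
  exact this.smul_bijective

variable {F G} (hF : Coh.IsQCoh F) (k : ℕ) (D₀ : Γ(F, ⊤) →+ Γ(G, ⊤)) (hD₀ : BOrd (B := Γ(X, ⊤)) k D₀)
  (hlin : ∀ (r : Γ(S, ⊤)) (m : Γ(F, ⊤)), D₀ (f.appTop r • m) = f.appTop r • D₀ m)

include hF in
theorem isLocalizedModule_res (a : Γ(X, ⊤)) :
    IsLocalizedModule (Submonoid.powers a)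
      ({ toFun := res F (X.basicOpen_le a), map_add' := map_add _
         map_smul' := fun b t => res_glob_smul F (X.basicOpen_le a) b t } :
        Γ(F, ⊤) →ₗ[Γ(X, ⊤)] Γ(F, X.basicOpen a)) := by
  have : F.IsQuasicoherent := hF
  have hloc := isLoc_of_isQCoh (isAffineOpen_top X) (M := F)
  refine { map_units := ?_, surj := fun t => ?_, exists_of_eq := fun {m m'} h => ?_ }
  · rintro ⟨_, j, rfl⟩
    rw [Module.End.isUnit_iff]
    refine bijective_smul_of_le F (a ^ j) ?_
    rcases j with _ | j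
    · rw [pow_zero, X.basicOpen_of_isUnit isUnit_one]; exact le_top
    · rw [X.basicOpen_pow _ j.succ_pos]
  · obtain ⟨n, s, hs⟩ := hloc.exists_extend a t
    refine ⟨⟨s, ⟨a ^ n, n, rfl⟩⟩, ?_⟩
    change (resO X (le_top : X.basicOpen a ≤ ⊤) (a ^ n) : Γ(X, X.basicOpen a)) • t = res F (X.basicOpen_le a) s
    rw [hs, map_pow]
  · have h0 : res F (X.basicOpen_le a) (m - m') = 0 := by
      rw [map_sub, sub_eq_zero]
      exact h
    obtain ⟨n, hn⟩ := hloc.exists_pow_smul_eq_zero a _ h0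
    refine ⟨⟨a ^ n, n, rfl⟩, ?_⟩
    change a ^ n • m = a ^ n • m'
    rw [← sub_eq_zero, ← smul_sub]
    exact hn

include hF hD₀ hlin in
theorem exists_loc (a : Γ(X, ⊤)) : ∃ E : Γ(F, X.basicOpen a) →+ Γ(G, X.basicOpen a),
    (∀ m, E (res F (X.basicOpen_le a) m) = res G (X.basicOpen_le a) (D₀ m)) ∧ BOrd (B := Γ(X, ⊤)) k E ∧
      ∀ (r : Γ(S, ⊤)) x, E (f.appTop r • x) = f.appTop r • E x := by
  haveI := isLocalizedModule_res hF a
  obtain ⟨E, h1, h2, h3⟩ := exists_ext a
    ({ toFun := res F (X.basicOpen_le a), map_add' := map_add _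
       map_smul' := fun b t => res_glob_smul F (X.basicOpen_le a) b t } :
      Γ(F, ⊤) →ₗ[Γ(X, ⊤)] Γ(F, X.basicOpen a)) (T := Set.range f.appTop.hom) (k := k)
    (bijective_smul_of_le G a le_rfl) (D := (res G (X.basicOpen_le a)).comp D₀)
    (bOrd_comp_left _ (res_glob_smul G _) hD₀) (by
      rintro _ ⟨r, rfl⟩ m
      change res G _ (D₀ (f.appTop r • m)) = f.appTop r • res G _ (D₀ m)
      rw [hlin, res_glob_smul])
  exact ⟨E, h1, h2, fun r => h3 _ ⟨r, rfl⟩⟩

/-- The operator on a basic open. -/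
def loc (a : Γ(X, ⊤)) : Γ(F, X.basicOpen a) →+ Γ(G, X.basicOpen a) :=
  (exists_loc f hF k D₀ hD₀ hlin a).choose

theorem loc_res (a : Γ(X, ⊤)) (m : Γ(F, ⊤)) :
    loc f hF k D₀ hD₀ hlin a (res F (X.basicOpen_le a) m) = res G (X.basicOpen_le a) (D₀ m) :=
  (exists_loc f hF k D₀ hD₀ hlin a).choose_spec.1 m

theorem loc_ord (a : Γ(X, ⊤)) : BOrd (B := Γ(X, X.basicOpen a)) k (loc f hF k D₀ hD₀ hlin a) := by
  refine bOrd_localise (resO X (X.basicOpen_le a)) (fun _ _ => rfl) (fun _ _ => rfl) (fun c => ?_)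
    (exists_loc f hF k D₀ hD₀ hlin a).choose_spec.2.1
  haveI := (isAffineOpen_top X).isLocalization_basicOpen a
  obtain ⟨n, b, hb⟩ := IsLocalization.Away.surj (S := Γ(X, X.basicOpen a)) a c
  refine ⟨b, a ^ n, ?_, ?_⟩
  · rw [map_pow]
    exact (RingedSpace.isUnit_res_basicOpen X.toRingedSpace a).pow n
  · rw [map_pow, mul_comm]
    exact hb

theorem loc_compat {a b : Γ(X, ⊤)} (h : X.basicOpen b ≤ X.basicOpen a) (t : Γ(F, X.basicOpen a)) :
    res G h (loc f hF k D₀ hD₀ hlin a t) = loc f hF k D₀ hD₀ hlin b (res F h t) := by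
  haveI := isLocalizedModule_res hF a
  have e : (res G h).comp (loc f hF k D₀ hD₀ hlin a) = (loc f hF k D₀ hD₀ hlin b).comp (res F h) := by
    refine eq_of_comp a ({ toFun := res F (X.basicOpen_le a), map_add' := map_add _
                           map_smul' := fun b t => res_glob_smul F (X.basicOpen_le a) b t } :
      Γ(F, ⊤) →ₗ[Γ(X, ⊤)] Γ(F, X.basicOpen a))
      (fun x hx => (bijective_smul_of_le G a h).1 (hx.trans (smul_zero a).symm))
      (bOrd_comp_left _ (res_top_smul G h) (exists_loc f hF k D₀ hD₀ hlin a).choose_spec.2.1)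
      (bOrd_comp_right _ (res_top_smul F h) (exists_loc f hF k D₀ hD₀ hlin b).choose_spec.2.1) fun m => ?_
    change res G h (loc f hF k D₀ hD₀ hlin a (res F _ m)) = loc f hF k D₀ hD₀ hlin b (res F h (res F _ m))
    rw [loc_res, res_res, res_res, loc_res]
  exact congrArg (fun E : Γ(F, X.basicOpen a) →+ Γ(G, X.basicOpen b) => E t) e

theorem existsUnique_glue (U : X.Opens) (t : Γ(F, U)) :
    ∃! y : Γ(G, U), ∀ (a : Γ(X, ⊤)) (h : X.basicOpen a ≤ U), res G h y = loc f hF k D₀ hD₀ hlin a (res F h t) := by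
  let ι := {a : Γ(X, ⊤) // X.basicOpen a ≤ U}
  have hg : ∃! y : Γ(G, U), ∀ i : ι, res G i.2 y = loc f hF k D₀ hD₀ hlin i.1 (res F i.2 t) := by
    refine TopCat.Sheaf.existsUnique_gluing' (abSheaf G) (fun i : ι => X.basicOpen i.1) U (fun i => homOfLE i.2)
      (fun x hx => ?_) _ fun i j => ?_
    · obtain ⟨a, ha, hxa⟩ := (isAffineOpen_top X).exists_basicOpen_le (V := U) ⟨x, hx⟩ trivial
      exact Opens.mem_iSup.2 ⟨⟨a, ha⟩, hxa⟩
    · have e : X.basicOpen i.1 ⊓ X.basicOpen j.1 = X.basicOpen (i.1 * j.1) := (X.basicOpen_mul _ _).symm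
      change res G (inf_le_left : X.basicOpen i.1 ⊓ X.basicOpen j.1 ≤ X.basicOpen i.1) (loc f hF k D₀ hD₀ hlin i.1 _) =
        res G inf_le_right (loc f hF k D₀ hD₀ hlin j.1 _)
      have key : ∀ {W : X.Opens}, X.basicOpen (i.1 * j.1) = W → ∀ (h1 : W ≤ X.basicOpen i.1) (h2 : W ≤ X.basicOpen j.1),
          res G h1 (loc f hF k D₀ hD₀ hlin i.1 (res F i.2 t)) = res G h2 (loc f hF k D₀ hD₀ hlin j.1 (res F j.2 t)) := by
        rintro _ rfl h1 h2
        rw [loc_compat, loc_compat, res_res, res_res]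
      exact key e.symm _ _
  exact ⟨hg.choose, fun a h => hg.choose_spec.1 ⟨a, h⟩, fun y hy => hg.choose_spec.2 y fun i => hy i.1 i.2⟩

/-- The operator on every open. -/
def app (U : X.Opens) : Γ(F, U) →+ Γ(G, U) :=
  AddMonoidHom.mk' (fun t => (existsUnique_glue f hF k D₀ hD₀ hlin U t).choose) fun t t' => by
    refine ((existsUnique_glue f hF k D₀ hD₀ hlin U (t + t')).choose_spec.2 _ fun a h => ?_).symm
    rw [map_add, map_add, map_add, (existsUnique_glue f hF k D₀ hD₀ hlin U t).choose_spec.1 a h,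
      (existsUnique_glue f hF k D₀ hD₀ hlin U t').choose_spec.1 a h]

theorem res_app (U : X.Opens) (t : Γ(F, U)) (a : Γ(X, ⊤)) (h : X.basicOpen a ≤ U) :
    res G h (app f hF k D₀ hD₀ hlin U t) = loc f hF k D₀ hD₀ hlin a (res F h t) :=
  (existsUnique_glue f hF k D₀ hD₀ hlin U t).choose_spec.1 a h

omit f in
theorem eq_of_res {U : X.Opens} {y y' : Γ(G, U)}
    (h : ∀ (a : Γ(X, ⊤)) (ha : X.basicOpen a ≤ U), res G ha y = res G ha y') : y = y' :=
  section_eq_of_locally fun x hx => by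
    obtain ⟨a, ha, hxa⟩ := (isAffineOpen_top X).exists_basicOpen_le (V := U) ⟨x, hx⟩ trivial
    exact ⟨_, ha, hxa, h a ha⟩

/-- The extension. -/
def hom : F.presheaf ⟶ G.presheaf where
  app U := AddCommGrpCat.ofHom (app f hF k D₀ hD₀ hlin U.unop)
  naturality U V i := by
    ext t
    refine eq_of_res fun a ha => ?_
    change res G ha (app f hF k D₀ hD₀ hlin V.unop (res F i.unop.le t)) =
      res G ha (res G i.unop.le (app f hF k D₀ hD₀ hlin U.unop t))
    rw [res_app, res_res, res_res, res_app]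

theorem hom_top (m : Γ(F, ⊤)) : (hom f hF k D₀ hD₀ hlin).app (op ⊤) m = D₀ m :=
  eq_of_res fun a ha => (res_app f hF k D₀ hD₀ hlin ⊤ m a ha).trans (loc_res f hF k D₀ hD₀ hlin a m)

theorem hom_ord (U : X.Opens) : BOrd (B := Γ(X, U)) k (dh (hom f hF k D₀ hD₀ hlin) U) := by
  have aux : ∀ (j : ℕ) (Δ : Γ(F, U) →+ Γ(G, U)) (Δ' : ∀ a : Γ(X, ⊤), X.basicOpen a ≤ U → (Γ(F, X.basicOpen a) →+ Γ(G, X.basicOpen a))),
      (∀ a h t, res G h (Δ t) = Δ' a h (res F h t)) → (∀ a h, BOrd (B := Γ(X, X.basicOpen a)) j (Δ' a h)) →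
      BOrd (B := Γ(X, U)) j Δ := by
    intro j
    induction j with
    | zero =>
      intro Δ Δ' h1 h2
      exact AddMonoidHom.ext fun t => eq_of_res fun a ha => by
        rw [h1, show Δ' a ha = 0 from h2 a ha, AddMonoidHom.zero_apply, AddMonoidHom.zero_apply, map_zero]
    | succ j ih =>
      intro Δ Δ' h1 h2 c
      refine ih _ (fun a h => ad (resO X h c) (Δ' a h)) (fun a h t => ?_) fun a h => h2 a h _
      rw [ad_apply, ad_apply, map_sub, res_smul, h1, h1, res_smul]
  exact aux k _ (fun a _ => loc f hF k D₀ hD₀ hlin a) (fun a h t => res_app f hF k D₀ hD₀ hlin U t a h)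
    fun a _ => loc_ord f hF k D₀ hD₀ hlin a

theorem hom_lin [IsAffine S] : Lin f (hom f hF k D₀ hD₀ hlin) := by
  intro V s U hU t
  refine section_eq_of_locally fun x hx => ?_
  obtain ⟨r, hr, hxr⟩ := (isAffineOpen_top S).exists_basicOpen_le (V := V) ⟨f x, hU hx⟩ trivial
  obtain ⟨a, ha, hxa⟩ := (isAffineOpen_top X).exists_basicOpen_le (V := U ⊓ f ⁻¹ᵁ S.basicOpen r) ⟨x, hx, hxr⟩ trivial
  have haU : X.basicOpen a ≤ U := ha.trans inf_le_left
  refine ⟨_, haU, hxa, ?_⟩
  haveI := (isAffineOpen_top S).isLocalization_basicOpen r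
  obtain ⟨n, x₀, hx₀⟩ := IsLocalization.Away.surj (S := Γ(S, S.basicOpen r)) r (resO S hr s)
  change res G haU (app f hF k D₀ hD₀ hlin U (resO X hU (f.app V s) • t)) =
    res G haU (resO X hU (f.app V s) • app f hF k D₀ hD₀ hlin U t)
  rw [res_app, res_smul, res_smul, resO_resO, res_app]
  set x' := res F haU t
  have hnat : ∀ {W : S.Opens} (hWV : W ≤ V) (haW : X.basicOpen a ≤ f ⁻¹ᵁ W),
      resO X (haU.trans hU) (f.app V s) = resO X haW (f.app W (resO S hWV s)) := fun hWV haW => by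
    rw [show f.app _ (resO S hWV s) = resO X (f.preimage_mono hWV) (f.app V s) from
      ConcreteCategory.congr_hom (f.naturality (homOfLE hWV).op) s, resO_resO]
  have haW : X.basicOpen a ≤ f ⁻¹ᵁ S.basicOpen r := ha.trans inf_le_right
  let g : Γ(S, S.basicOpen r) →+* Γ(X, X.basicOpen a) := (resO X haW).comp (f.app (S.basicOpen r)).hom
  have hg : ∀ y : Γ(S, ⊤), g (resO S (S.basicOpen_le r) y) = resO X (X.basicOpen_le a) (f.appTop y) := fun y => by
    change resO X haW (f.app _ (resO S (S.basicOpen_le r) y)) = _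
    rw [show f.app _ (resO S (S.basicOpen_le r) y) = resO X (f.preimage_mono (S.basicOpen_le r)) (f.app ⊤ y) from
      ConcreteCategory.congr_hom (f.naturality (homOfLE (S.basicOpen_le r)).op) y, resO_resO]
    rfl
  rw [hnat hr haW]
  change loc f hF k D₀ hD₀ hlin a (g (resO S hr s) • x') = g (resO S hr s) • loc f hF k D₀ hD₀ hlin a x'
  have hu : IsUnit (g (resO S (S.basicOpen_le r) r) ^ n) :=
    ((RingedSpace.isUnit_res_basicOpen S.toRingedSpace r).map g).pow n
  refine hu.smul_left_cancel.1 ?_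
  have hL := (exists_loc f hF k D₀ hD₀ hlin a).choose_spec.2.2
  have hx₀' : g (resO S hr s) * g (resO S (S.basicOpen_le r) r) ^ n = g (resO S (S.basicOpen_le r) x₀) := by
    rw [← map_pow, ← map_mul]
    exact congrArg g hx₀
  rw [smul_smul, mul_comm, hx₀', hg r, hg x₀, ← map_pow, ← map_pow]
  refine (hL (r ^ n) _).symm.trans ?_
  change loc f hF k D₀ hD₀ hlin a (resO X (X.basicOpen_le a) (f.appTop (r ^ n)) • _) = _
  rw [smul_smul, map_pow, map_pow, ← hg r, mul_comm, hx₀', hg]
  exact hL x₀ x'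

end Groth.Agent.DiffExt
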